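import Groth.Agent.Lib.SmoothReg17.Basic
import Groth.Agent.Lib.RefHull26.HomExt
import Groth.Agent.Lib.HProj12.Local
import Groth.Agent.S4418
import Groth.Agent.S4419
import Groth.Agent.S2331

/-!
# Generic projectivity of proper morphisms that are generically quasi-projective
-/

set_option autoImplicit false
set_option linter.style.haveILetI false
set_option backward.isDefEq.respectTransparency false
set_option backward.isDefEq.respectTransparency.types false

universe u

open CategoryTheory Limits AlgebraicGeometry TopologicalSpace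

namespace Groth.Agent.GenProj2

variable {X S : Scheme.{u}}

/-- A closed set which contains no connected component is nowhere dense, on a noetherian scheme with domains as local rings. -/
theorem dense_compl [IsNoetherian S] (hdom : ∀ x : S, IsDomain (S.presheaf.stalk x)) {Z : Set S} (hZ : IsClosed Z)
    (h : ∀ s : S, ∃ s', s' ∈ connectedComponent s ∧ s' ∉ Z) : Dense Zᶜ := by
  intro x
  rw [mem_closure_iff]
  intro O hO hxO
  obtain ⟨s', hs', hsZ⟩ := h x
  -- all points of a connected component have the same generic point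
  choose V hxV η hη hV using fun y : S => RH26.exists_irreducible_nhd_of_domain hdom y
  have hgen : ∀ y z : S, z ∈ V y → η z = η y := fun y z hz => by
    have h1 : η y ⤳ z := hV y z hz
    have h2 : η z ⤳ η y := by
      refine hV z (η y) ?_
      exact h1.mem_open (V z).2 (hxV z)
    have h3 : η y ⤳ η z := by
      refine hV y (η z) ?_
      exact (hη z).mem_open (V y).2 hz
    exact (h2.antisymm h3).eq
  have hlc : IsLocallyConstant η := (IsLocallyConstant.iff_exists_open η).mpr fun y => ⟨V y, (V y).2, hxV y, hgen y⟩
  have he : η s' = η x := hlc.apply_eq_of_isPreconnected isPreconnected_connectedComponent hs' mem_connectedComponent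
  exact ⟨η x, (hη x).mem_open hO hxO, fun hc => hsZ ((he ▸ hη s').mem_closed hZ hc)⟩

/-- Over an open whose preimage lies in a quasi-projective open, a proper morphism is projective. -/
theorem isProjective_restrict [IsNoetherian S] (f : X ⟶ S) [IsProper f] {U : X.Opens}
    (hU : RelProj.IsQuasiProjective (U.ι ≫ f)) {V : S.Opens} (hVU : f ⁻¹ᵁ V ≤ U) :
    RelProj.IsProjective (f ∣_ V) := by
  have h0 : IsPullback (X.homOfLE hVU) (𝟙 _) U.ι (f ⁻¹ᵁ V).ι :=
    ⟨⟨by simp⟩, ⟨PullbackCone.IsLimit.mk _ (fun s => s.snd) (fun s => by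
        rw [← cancel_mono U.ι, Category.assoc, Scheme.homOfLE_ι]; exact s.condition.symm)
      (fun s => Category.comp_id _) (fun s m h1 h2 => by rw [← h2, Category.comp_id])⟩⟩
  have sq : IsPullback (X.homOfLE hVU) (f ∣_ V) (U.ι ≫ f) V.ι := by
    simpa using h0.paste_vert (isPullback_morphismRestrict f V).flip
  obtain ⟨h1, h2, L, hL⟩ := hU
  haveI := h2
  have hq : RelProj.IsQuasiProjective (f ∣_ V) := by
    rw [← sq.isoPullback_hom_snd]
    exact ⟨inferInstance, inferInstance, _,
      Groth.Agent.S2359.result _ sq.isoPullback.hom sq.isoPullback.hom.isOpenEmbedding.isEmbedding _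
        (Groth.Agent.S2332.result (U.ι ≫ f) V.ι L hL)⟩
  haveI : NoetherianSpace ↥(V : Scheme.{u}) :=
    V.ι.isOpenEmbedding.isEmbedding.isInducing.noetherianSpace
  exact Groth.Agent.S4419.result (Or.inr inferInstance) _ hq

/-- The preimage of an open over which a morphism is projective is quasi-projective over the base. -/
theorem isQuasiProjective_preimage [IsNoetherian S] (f : X ⟶ S) (V : S.Opens)
    (hV : RelProj.IsProjective (f ∣_ V)) : RelProj.IsQuasiProjective ((f ⁻¹ᵁ V).ι ≫ f) := by
  obtain ⟨h1, h2, L, hL⟩ := (Groth.Agent.S4418.result _ hV).1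
  haveI := h1
  haveI := h2
  have hid : RelAmple.IsRelAmple (𝟙 S) (Coh.structureModule S) := by
    refine ⟨inferInstance, fun W => ?_⟩
    haveI : IsAffine ((𝟙 S ⁻¹ᵁ W.1 : S.Opens) : Scheme.{u}) := W.2
    exact Groth.Agent.S4373.result _ _
      (M2.isInvertible_restrict (PicLoc.isInvertible_structureModule S) _)
  have hι := Groth.Agent.S2359.result (𝟙 S) V.ι V.ι.isOpenEmbedding.isEmbedding _ hid
  rw [Category.comp_id] at hι
  obtain ⟨n, -, hn⟩ := Groth.Agent.S2331.result (f ∣_ V) V.ι L _ hL hι
  have := hn n le_rfl
  rw [morphismRestrict_ι] at this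
  refine ⟨?_, ?_, _, this⟩
  · rw [← morphismRestrict_ι]; infer_instance
  · rw [← morphismRestrict_ι]; infer_instance

end Groth.Agent.GenProj2
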